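import Cfsg.Agent.Lib.Helper37.Suz1782.Data

set_option autoImplicit false
set_option maxRecDepth 100000

namespace Cfsg.Agent.Lib.Helper37.Suz1782

open Cfsg.Spor Cfsg.Agent.Lib.Helper37.TC

set_option maxHeartbeats 0 in
theorem relWords_eq : relWords = relWordsC := by decide +kernel

set_option maxHeartbeats 0 in
theorem perm_ok : permOK P allGens = true := by decide +kernel

set_option maxHeartbeats 0 in
theorem cox_ok : (allGens.all fun x => allGens.all fun y =>
    trivOK P (coxWord x y (coxLabel Suz.edges x y))) = true := by decide +kernel

set_option maxHeartbeats 0 in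
theorem extra_ok : extraWords.all (trivOK P) = true := by decide +kernel

set_option maxHeartbeats 0 in
theorem subs_ok : subWords.all (fun w => Nat.beq (wk P w 0) 0) = true := by decide +kernel

set_option maxHeartbeats 0 in
theorem tree_ok : treeOK P letterOf 14 tpar tlet = true := by decide +kernel

set_option maxHeartbeats 0 in
theorem orb1_ok : orbitOK P subWords 14 orb1 = true := by decide +kernel

set_option maxHeartbeats 0 in
theorem orb2_ok : orbitOK P subWords 14 orb2 = true := by decide +kernel

end Cfsg.Agent.Lib.Helper37.Suz1782
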