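import Cfsg.Agent.Lib.Helper37.Suz1782.Run
import Cfsg.Agent.Lib.Helper37.Suz1782.Checks

set_option autoImplicit false
set_option linter.constructorNameAsVariable false

namespace Cfsg.Agent.Lib.Helper37.Suz1782

open Cfsg.Spor Cfsg.Agent.Lib.Helper37.TC

/-- the relator set -/
abbrev relSet : Set (FreeGroup Suz.Gen) := coxRelators Suz.edges ∪ {r | r ∈ Suz.extra}

/-- the generators of the subgroup -/
abbrev subSet : Set (FreeGroup Suz.Gen) := ({Cfsg.Spor.Suz.a, Cfsg.Spor.Suz.b, Cfsg.Spor.Suz.c, Cfsg.Spor.Suz.d, Cfsg.Spor.Suz.e, Cfsg.Spor.Suz.f} : Set (FreeGroup Suz.Gen))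

theorem extra_eq : Suz.extra = extraWords.map FreeGroup.mk := rfl

theorem node_mem (x : Suz.Gen) : x ∈ coxNodes Suz.edges := by cases x <;> decide

theorem gen_mem (x : Suz.Gen) : x ∈ allGens := by cases x <;> decide

theorem subSet_words : ∀ s ∈ subSet, ∃ w ∈ subWords, s = FreeGroup.mk w := by
  intro s hs
  simp only [subSet, Set.mem_insert_iff, Set.mem_singleton_iff] at hs
  rcases hs with rfl | rfl | rfl | rfl | rfl | rfl
  · exact ⟨_, by simp [subWords], rfl⟩
  · exact ⟨_, by simp [subWords], rfl⟩
  · exact ⟨_, by simp [subWords], rfl⟩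
  · exact ⟨_, by simp [subWords], rfl⟩
  · exact ⟨_, by simp [subWords], rfl⟩
  · exact ⟨_, by simp [subWords], rfl⟩

theorem subWords_mem : ∀ w ∈ subWords, FreeGroup.mk w ∈ subSet := by
  intro w hw
  simp only [subWords, List.mem_cons, List.not_mem_nil, or_false] at hw
  rcases hw with rfl | rfl | rfl | rfl | rfl | rfl
  · exact Or.inl rfl
  · exact Or.inr (Or.inl rfl)
  · exact Or.inr (Or.inr (Or.inl rfl))
  · exact Or.inr (Or.inr (Or.inr (Or.inl rfl)))
  · exact Or.inr (Or.inr (Or.inr (Or.inr (Or.inl rfl))))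
  · exact Or.inr (Or.inr (Or.inr (Or.inr (Or.inr (rfl)))))

theorem theCert : Cert relSet subSet S P 7 cert tpar tlet where
  hgens := gen_mem
  hcol := by
    rintro ⟨x, b⟩ ⟨y, b'⟩ hxy
    change colF (x, b) = colF (y, b') at hxy
    have hx : x = y := by
      cases x <;> cases y <;> first | rfl | (simp [colF] at hxy)
    subst hx
    have hinv := cox_of_inv Suz.edges {r | r ∈ Suz.extra} x (node_mem x)
    cases b <;> cases b' <;> simp [lv, hinv]
  hrelsTC := by
    intro w hw
    change w ∈ relWords at hw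
    rw [relWords_eq] at hw
    unfold relWordsC at hw
    rcases List.mem_append.1 hw with h1 | h2
    · simp only [List.mem_flatMap, List.mem_map] at h1
      obtain ⟨x, _, y, _, rfl⟩ := h1
      exact Or.inl (coxWord_mem Suz.edges x y (node_mem x) (node_mem y))
    · right
      change FreeGroup.mk w ∈ Suz.extra
      rw [extra_eq]
      exact List.mem_map_of_mem h2
  hsubsTC := subWords_mem
  hrun := checkRun_spec run_ok
  hpos := by decide
  hperm := perm_ok
  hrelsP := by
    rintro r (hr | hr)
    · obtain ⟨x, hx, y, hy, rfl⟩ := coxRelators_word Suz.edges r hr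
      refine ⟨_, rfl, ?_⟩
      have := cox_ok
      simp only [List.all_eq_true] at this
      exact this x (gen_mem x) y (gen_mem y)
    · change r ∈ Suz.extra at hr
      rw [extra_eq, List.mem_map] at hr
      obtain ⟨w, hw, rfl⟩ := hr
      refine ⟨w, rfl, ?_⟩
      have := extra_ok
      simp only [List.all_eq_true] at this
      exact this w hw
  hsubsP := by
    intro s hs
    obtain ⟨w, hw, rfl⟩ := subSet_words s hs
    refine ⟨w, rfl, ?_⟩
    have := subs_ok
    simp only [List.all_eq_true] at this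
    exact Nat.eq_of_beq_eq_true (this w hw)
  htree := tree_ok

end Cfsg.Agent.Lib.Helper37.Suz1782
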