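import Cfsg.Agent.Lib.Helper37.Suz1782.Data

set_option autoImplicit false
set_option maxRecDepth 100000

namespace Cfsg.Agent.Lib.Helper37.Suz1782

open Cfsg.Spor Cfsg.Agent.Lib.Helper37.TC

set_option maxHeartbeats 0 in
theorem run_ok : checkRun S cert 7 1782 = true := by decide +kernel

end Cfsg.Agent.Lib.Helper37.Suz1782
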